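import Mathlib.CategoryTheory.Sites.Pullback
import Mathlib.CategoryTheory.Limits.Final
import Mathlib.CategoryTheory.ConnectedComponents
import Mathlib.CategoryTheory.Limits.Comma
import Mathlib.CategoryTheory.Limits.Shapes.Pullback.HasPullback
import Mathlib.CategoryTheory.Comma.StructuredArrow.Basic
import Mathlib.Algebra.Category.Grp.AB
import Mathlib.Algebra.Category.Grp.Colimits
import Mathlib.CategoryTheory.Abelian.GrothendieckAxioms.Basic
import Mathlib.CategoryTheory.Limits.Preserves.Finite
import Mathlib.CategoryTheory.Filtered.Connected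

/-!
Colimits of abelian groups over a category with pushouts and coequalizers are exact, hence left Kan
extension along a functor preserving pullbacks and equalizers is exact.
-/

set_option autoImplicit false
set_option backward.isDefEq.respectTransparency false
set_option backward.defeqAttrib.useBackward true

universe u

open CategoryTheory Limits Opposite

namespace Groth.Agent.W7LanExact

variable {J : Type u} [SmallCategory J]

lemma exists_cocone_of_zigzag [HasPushouts J] {a b : J} (h : Zigzag a b) :
    ∃ (c : J) (_ : a ⟶ c), Nonempty (b ⟶ c) := by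
  induction h with
  | refl => exact ⟨a, 𝟙 a, ⟨𝟙 a⟩⟩
  | @tail x y _ hxy ih =>
    obtain ⟨c, f, ⟨g⟩⟩ := ih
    rcases hxy with ⟨⟨k⟩⟩ | ⟨⟨k⟩⟩
    · exact ⟨pushout g k, f ≫ pushout.inl g k, ⟨pushout.inr g k⟩⟩
    · exact ⟨c, f, ⟨k ≫ g⟩⟩

lemma mk_eq_of_hom {a b : J} (f : a ⟶ b) :
    CategoryTheory.ConnectedComponents.mk a = CategoryTheory.ConnectedComponents.mk b :=
  Quotient.sound (Zigzag.of_hom f)

lemma isFiltered_component [HasPushouts J] [HasCoequalizers J] (k : CategoryTheory.ConnectedComponents J) :
    IsFiltered k.Component :=
  haveI : IsFilteredOrEmpty k.Component :=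
    { cocone_objs := fun X Y => by
        obtain ⟨c, f, ⟨g⟩⟩ := exists_cocone_of_zigzag
          (Quotient.exact' (X.property.trans Y.property.symm) : Zigzag X.obj Y.obj)
        exact ⟨⟨c, (mk_eq_of_hom f).symm.trans X.property⟩, ObjectProperty.homMk f,
          ObjectProperty.homMk g, trivial⟩
      cocone_maps := fun X Y f g =>
        ⟨⟨coequalizer f.hom g.hom, (mk_eq_of_hom (coequalizer.π f.hom g.hom)).symm.trans Y.property⟩,
          ObjectProperty.homMk (coequalizer.π f.hom g.hom),
          ObjectProperty.hom_ext _ (coequalizer.condition f.hom g.hom)⟩ }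
  { nonempty := inferInstance }

/-- colimit on one component -/
noncomputable abbrev compColim (k : CategoryTheory.ConnectedComponents J) :
    (J ⥤ AddCommGrpCat.{u}) ⥤ AddCommGrpCat.{u} :=
  (Functor.whiskeringLeft k.Component J AddCommGrpCat.{u}).obj k.ι ⋙ colim

/-- componentwise colimits -/
noncomputable def phi :
    (J ⥤ AddCommGrpCat.{u}) ⥤ (Discrete (CategoryTheory.ConnectedComponents J) ⥤ AddCommGrpCat.{u}) where
  obj F := Discrete.functor fun k => (compColim k).obj F
  map f := Discrete.natTrans fun k => (compColim k.as).map f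
  map_id F := NatTrans.ext (funext fun k => (compColim k.as).map_id F)
  map_comp f g := NatTrans.ext (funext fun k => (compColim k.as).map_comp f g)

/-- the summand of an object -/
noncomputable def toPhi (F : J ⥤ AddCommGrpCat.{u}) (k : CategoryTheory.ConnectedComponents J) (j : J)
    (h : CategoryTheory.ConnectedComponents.mk j = k) : F.obj j ⟶ colim.obj (phi.obj F) :=
  colimit.ι (k.ι ⋙ F) ⟨j, h⟩ ≫ colimit.ι (phi.obj F) ⟨k⟩

lemma toPhi_congr (F : J ⥤ AddCommGrpCat.{u}) {k k' : CategoryTheory.ConnectedComponents J} (j : J)
    (h : CategoryTheory.ConnectedComponents.mk j = k) (h' : CategoryTheory.ConnectedComponents.mk j = k') :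
    toPhi F k j h = toPhi F k' j h' := by
  have e : k = k' := h.symm.trans h'
  subst e
  rfl

lemma toPhi_map (F : J ⥤ AddCommGrpCat.{u}) {k : CategoryTheory.ConnectedComponents J} {j j' : J} (f : j ⟶ j')
    (h : CategoryTheory.ConnectedComponents.mk j = k) (h' : CategoryTheory.ConnectedComponents.mk j' = k) :
    F.map f ≫ toPhi F k j' h' = toPhi F k j h := by
  unfold toPhi
  rw [← Category.assoc]
  exact congrArg (fun z => z ≫ colimit.ι (phi.obj F) ⟨k⟩)
    (colimit.w (k.ι ⋙ F) (ObjectProperty.homMk f : (⟨j, h⟩ : k.Component) ⟶ ⟨j', h'⟩))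

/-- a colimit is the sum of the colimits on components -/
noncomputable def colimIso : (colim : (J ⥤ AddCommGrpCat.{u}) ⥤ _) ≅ phi ⋙ colim :=
  NatIso.ofComponents (fun F =>
    { hom := colimit.desc F
        { pt := colim.obj (phi.obj F)
          ι :=
            { app := fun j => toPhi F _ j rfl
              naturality := fun j j' f => by
                dsimp
                rw [Category.comp_id, toPhi_map F f (mk_eq_of_hom f) rfl]
                exact toPhi_congr F j _ _ } }
      inv := colimit.desc (phi.obj F)
        { pt := colimit F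
          ι := Discrete.natTrans fun k => colimit.desc (k.as.ι ⋙ F)
            { pt := colimit F
              ι :=
                { app := fun X => colimit.ι F X.obj
                  naturality := fun X Y f => by
                    dsimp
                    rw [Category.comp_id]
                    exact colimit.w F f.hom } } }
      hom_inv_id := colimit.hom_ext fun j => by
        rw [colimit.ι_desc_assoc]
        dsimp [toPhi]
        erw [Category.assoc, colimit.ι_desc, colimit.ι_desc]
        exact (Category.comp_id _).symm
      inv_hom_id := colimit.hom_ext fun k => by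
        obtain ⟨k⟩ := k
        refine colimit.hom_ext fun X => ?_
        erw [colimit.ι_desc_assoc]
        dsimp
        erw [colimit.ι_desc_assoc, colimit.ι_desc, Category.comp_id]
        exact toPhi_congr F X.obj _ X.property })
    (fun {F G} f => colimit.hom_ext fun j => by
      dsimp
      rw [ι_colimMap_assoc, colimit.ι_desc, colimit.ι_desc_assoc]
      dsimp [toPhi]
      erw [Category.assoc, ι_colimMap]
      dsimp [phi]
      erw [← Category.assoc, ← Category.assoc, ι_colimMap]
      rfl)

theorem colim_preservesFiniteLimits [HasPushouts J] [HasCoequalizers J] :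
    PreservesFiniteLimits (colim : (J ⥤ AddCommGrpCat.{u}) ⥤ AddCommGrpCat.{u}) := by
  haveI : AB4 AddCommGrpCat.{u} := AB4.of_AB5 _
  haveI : HasExactColimitsOfShape (Discrete (CategoryTheory.ConnectedComponents J)) AddCommGrpCat.{u} :=
    AB4OfSize.ofShape _
  haveI := HasExactColimitsOfShape.preservesFiniteLimits
    (J := Discrete (CategoryTheory.ConnectedComponents J)) (C := AddCommGrpCat.{u})
  haveI : PreservesFiniteLimits (phi (J := J)) := ⟨fun K _ _ => by
    apply preservesLimitsOfShape_of_evaluation
    intro k
    haveI := isFiltered_component k.as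
    haveI : PreservesFiniteLimits (colim : (k.as.Component ⥤ AddCommGrpCat.{u}) ⥤ _) :=
      HasExactColimitsOfShape.preservesFiniteLimits
    haveI : PreservesFiniteLimits (compColim k.as) := comp_preservesFiniteLimits _ _
    exact preservesLimitsOfShape_of_natIso
      (NatIso.ofComponents (fun F => Iso.refl _) :
        compColim k.as ≅ phi ⋙ (evaluation _ _).obj k)⟩
  haveI : PreservesFiniteLimits (phi (J := J) ⋙ colim) := comp_preservesFiniteLimits _ _
  exact preservesFiniteLimits_of_natIso colimIso.symm

variable {C D : Type u} [SmallCategory C] [SmallCategory D]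

/-- Pointwise description of `lan`. -/
noncomputable def lanEvalIso (F : C ⥤ D) (X : D) :
    (F.lan : (C ⥤ AddCommGrpCat.{u}) ⥤ _) ⋙ (evaluation D AddCommGrpCat.{u}).obj X ≅
      (Functor.whiskeringLeft _ _ AddCommGrpCat.{u}).obj (CostructuredArrow.proj F X) ⋙ colim :=
  NatIso.ofComponents (fun G =>
    IsColimit.coconePointUniqueUpToIso
    (Functor.isPointwiseLeftKanExtensionLeftKanExtensionUnit F G X)
    (colimit.isColimit _)) (fun {G₁ G₂} φ => by
      apply (Functor.isPointwiseLeftKanExtensionLeftKanExtensionUnit F G₁ X).hom_ext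
      intro T
      have h₁ := fun (G : C ⥤ AddCommGrpCat.{u}) => IsColimit.comp_coconePointUniqueUpToIso_hom
        (Functor.isPointwiseLeftKanExtensionLeftKanExtensionUnit F G X) (colimit.isColimit _) T
      have h₂ := congr_app (F.lanUnit.naturality φ) T.left
      dsimp at h₁ h₂ ⊢
      simp only [Category.assoc] at h₁ ⊢
      simp only [Functor.lan, Functor.lanUnit] at h₂ ⊢
      rw [reassoc_of% h₁, NatTrans.naturality_assoc, ← reassoc_of% h₂, h₁,
        ι_colimMap, Functor.whiskerLeft_app]
      rfl)

theorem lan_preservesFiniteLimits (v : C ⥤ D) [HasPullbacks C] [HasEqualizers C]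
    [PreservesLimitsOfShape WalkingCospan v] [PreservesLimitsOfShape WalkingParallelPair v] :
    PreservesFiniteLimits (v.op.lan : (Cᵒᵖ ⥤ AddCommGrpCat.{u}) ⥤ Dᵒᵖ ⥤ AddCommGrpCat.{u}) := by
  refine ⟨fun K _ _ => ?_⟩
  apply preservesLimitsOfShape_of_evaluation
  intro X
  let e := structuredArrowOpEquivalence v (unop X)
  haveI : HasPullbacks (StructuredArrow (unop X) v) := inferInstance
  haveI : HasEqualizers (StructuredArrow (unop X) v) := inferInstance
  haveI : HasPushouts (CostructuredArrow v.op X) :=
    Adjunction.hasColimitsOfShape_of_equivalence e.inverse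
  haveI : HasCoequalizers (CostructuredArrow v.op X) :=
    Adjunction.hasColimitsOfShape_of_equivalence e.inverse
  haveI := colim_preservesFiniteLimits (J := CostructuredArrow v.op X)
  exact preservesLimitsOfShape_of_natIso (lanEvalIso v.op X).symm

end Groth.Agent.W7LanExact
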